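import Mathlib
import Cfsg.Agent.Lib.C9.Defs
import Cfsg.Agent.Lib.Mit.GeoSL
import Cfsg.Agent.Lib.Mit.GeoSU
import Cfsg.Agent.Lib.Mit.Res
import Cfsg.Agent.Lib.Mit.Main
import Cfsg.Agent.Lib.Mit.BloomB
import Cfsg.Agent.Lib.Classical.SLBasic

/-! Subgroups of the three-dimensional groups normalised by the Hessian group (plans/C9.md). -/

set_option autoImplicit false

namespace CfsgLib.C9

open Matrix Subgroup Equiv Cfsg Cfsg.Geo CfsgLib.Asch CfsgLib.Mit CfsgLib.Mit.Gm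
open scoped MatrixGroups commutatorElement

theorem comm_central {G : Type*} [Group G] {a b c d : G} (hc : ∀ g, g * c = c * g)
    (hd : ∀ g, g * d = d * g) : ⁅a * c, b * d⁆ = ⁅a, b⁆ := by
  calc ⁅a * c, b * d⁆ = a * (c * (b * d)) * c⁻¹ * a⁻¹ * d⁻¹ * b⁻¹ := by group
    _ = a * b * (d * a⁻¹) * d⁻¹ * b⁻¹ := by rw [← hc]; group
    _ = _ := by rw [← hd]; group

variable {F : Type*} [Field F] [Fintype F] {ω : F} (hω : Om ω) {M L : Subgroup (G3 F)} {y : G3 F}
  {u : Prop} {ψ : F →+* F}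

omit [Fintype F] in
theorem not_sign (h2 : (2 : F) ≠ 0) : dg (-1) (-1) 1 ∉ N3 hω := fun h => h2 (by
  have := congrArg Units.val (dg_mem_N3 hω h).2
  simp only [Units.val_pow_eq_pow_val, Units.val_neg, Units.val_one] at this
  linear_combination -this)

/-- `R` is characteristic in the subgroups between the Hessian group and `N3 ⊓ SL₃` -/
theorem mem_N3 (hr : HessRow hω M) (h1 : M ≤ N3 hω) (h2 : M ≤ specialLinear (Fin 3) F)
    (hy : ∀ n, n ∈ M ↔ y * n * y⁻¹ ∈ M) : y ∈ N3 hω := by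
  have := finite_gl (F := F)
  refine mem_normalizer_fintype fun x hx => ?_
  have hx' := (hy x).1 (hr.le hx)
  obtain ⟨A, hA⟩ := exists_act hω (h1 hx')
  have key : ∀ a b c d : ZMod 3, !![a, b; c, d].det = 1 → !![a, b; c, d] ^ 3 = 1 →
      (!![a, b; c, d] * !![0, 1; 2, 0] * !![a, b; c, d] ^ 2 * !![0, 1; 2, 0] ^ 3) ^ 3 = 1 →
      !![a, b; c, d] = 1 := by decide +kernel
  have nine : ∀ x ∈ stdR hω, (y * x * y⁻¹) ^ 3 = 1 := fun x hx => by
    rw [conj_pow, cube_stdR hω hx, mul_one, mul_inv_cancel]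
  have hf : y⁻¹ * fS hω * y ∈ M := (hy _).2 (by simpa [mul_assoc] using hr.f_mem)
  have e : y * x * y⁻¹ * fS hω * (y * x * y⁻¹) ^ 2 * fS hω ^ 3 =
      y * (x * (y⁻¹ * fS hω * y * x⁻¹ * (y⁻¹ * fS hω * y)⁻¹)) * y⁻¹ := by
    rw [eq_inv_of_mul_eq_one_left ((pow_succ _ 2).symm.trans (nine x hx)),
      show fS hω ^ 3 = (fS hω)⁻¹ from eq_inv_of_mul_eq_one_left (by
        rw [← pow_succ, show 3 + 1 = 2 * 2 from rfl, pow_mul, fS_sq, tS_sq])]
    group
  have a1 : A ^ 3 = 1 := (hA.pow 3).unique hω (by rw [nine x hx]; exact act_one)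
  have a2 := ((((hA.mul (act_fS hω)).mul (hA.pow 2)).mul ((act_fS hω).pow 3)).pow 3).unique hω
    (A' := 1) (by
      rw [e, nine _ (mul_mem hx ((mem_normalizer_iff.1 (h1 hf) _).1 (inv_mem hx)))]
      exact act_one)
  have a3 := hA.det hω
  rw [eta_fin_two A] at a1 a2 a3 hA
  rw [key _ _ _ _ a3 a1 a2] at hA
  exact hA.mem hω (mem_specialLinear.1 (h2 hx'))

theorem mit_of (ho : u → ψ ω = ω ^ 2) {P : Prop}
    (hd : ∀ L, N3 hω ⊓ SG (Fin 3) u ψ ≤ L → L ≤ SG (Fin 3) u ψ → dS hω ∈ normalizer (L : Set (G3 F)) →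
      L ≤ N3 hω ∨ (SG (Fin 3) u ψ ≤ L ∧ P))
    (hq : P → ∀ M, Nrm (SG (Fin 3) u ψ) M → M ⊓ SG (Fin 3) u ψ ≤ scalars (Fin 3) F ∨ SG (Fin 3) u ψ ≤ M)
    (hM : M ≤ UG (Fin 3) u ψ) (hH : Hs hω ≤ normalizer (M : Set (G3 F))) :
    M ≤ N3 hω ∨ (SG (Fin 3) u ψ ≤ M ∧ P) := by
  set L := M ⊔ Hs hω ⊔ scalars (Fin 3) F ⊓ UG (Fin 3) u ψ
  have hU := Hs_le_UG hω ho
  have h1 : L ≤ UG (Fin 3) u ψ := sup_le (sup_le hM hU) inf_le_right
  have h2 : L ≤ normalizer (M : Set (G3 F)) := sup_le (sup_le le_normalizer hH) fun g hg =>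
    mem_normalizer_iff.2 fun x => by rw [mul_comm_of_mem_scalars hg.1, mul_inv_cancel_right]
  have h3 : Hs hω ≤ L := le_sup_right.trans le_sup_left
  have sl : ∀ g x : G3 F, x ∈ specialLinear (Fin 3) F → g * x * g⁻¹ ∈ specialLinear (Fin 3) F :=
    fun g x hx => (MonoidHom.normal_ker _).conj_mem _ hx _
  have h4 : ∀ y ∈ L, ∀ n, n ∈ L ⊓ SG (Fin 3) u ψ ↔ y * n * y⁻¹ ∈ L ⊓ SG (Fin 3) u ψ := by
    have k : ∀ y ∈ L, ∀ n ∈ L ⊓ SG (Fin 3) u ψ, y * n * y⁻¹ ∈ L ⊓ SG (Fin 3) u ψ := fun y hy n hn =>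
      have := L.mul_mem (L.mul_mem hy hn.1) (L.inv_mem hy)
      ⟨this, h1 this, sl _ _ hn.2.2⟩
    exact fun y hy n => ⟨k y hy n, fun h => by simpa [mul_assoc] using k _ (inv_mem hy) _ h⟩
  have hr : HessRow hω (SG (Fin 3) u ψ) := by
    have hf := hU (H4_le hω (fS_H4 hω))
    have hd := hU (H4_le hω (dS_H4 hω))
    exact HessRow.inf ⟨hU (stdR_le_Hs hω (xS_mem hω)), hU (stdR_le_Hs hω (yS_mem hω)), hf,
      mul_mem (mul_mem hd hf) (pow_mem hd 2)⟩ (hessRow_SL hω)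
  have h5 : N3 hω ⊓ SG (Fin 3) u ψ ≤ L ⊓ SG (Fin 3) u ψ := fun g hg => by
    obtain ⟨h, hh, r, hr, s, e⟩ := N3_struct hω hg.1
    have h6 := mul_mem (H4_le hω hh) (stdR_le_Hs hω hr)
    refine ⟨e ▸ L.mul_mem (h3 h6) (mem_sup_right ⟨sc_mem s, ?_⟩), hg.2⟩
    exact (mul_mem_cancel_left (hU h6)).1 (e ▸ hg.2.1)
  rcases hd _ h5 inf_le_right (mem_normalizer_iff.2 (h4 _ (h3 (H4_le hω (dS_H4 hω))))) with h | ⟨h, hP⟩
  · exact .inl fun m hm => mem_N3 hω (((hessRow_normalizer hω).inf hr).mono h5) h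
      (inf_le_right.trans inf_le_right) (h4 m (mem_sup_left (mem_sup_left hm)))
  refine (hq hP M fun g hg x hx => (mem_normalizer_iff.1 (h2 (h hg).1) x).1 hx).imp
    (fun h6 m hm => ?_) fun h => ⟨h, hP⟩
  have k : ∀ x ∈ stdR hω, ∃ s : F, cj m (x : M3 F) = s • (x : M3 F) := fun x hx => by
    have hx' := stdR_le_Hs hω hx
    obtain ⟨s, hs⟩ := (mem_scalars_iff _).1 (h6 (x := m * (x * m⁻¹ * x⁻¹))
      ⟨mul_mem hm ((mem_normalizer_iff.1 (hH hx') _).1 (inv_mem hm)),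
        Subgroup.mul_mem _ (hM hm) (mul_mem (mul_mem (hU hx') (inv_mem (hM hm))) (inv_mem (hU hx'))), by
          rw [← mul_assoc, ← mul_assoc]
          exact Subgroup.mul_mem _ (sl _ _ (hessRow_SL hω |>.le hx)) (inv_mem (hessRow_SL hω |>.le hx))⟩)
    refine ⟨s, ?_⟩
    rw [cj_coe, show m * x * m⁻¹ = m * (x * m⁻¹ * x⁻¹) * x by group, Units.val_mul, hs,
      smul_mul_assoc, one_mul]
  obtain ⟨s, hs⟩ := k _ (xS_mem hω)
  obtain ⟨t, ht⟩ := k _ (yS_mem hω)
  exact (act_of hω (a := 1) (c := 0) (b := 0) (d := 1) ⟨s, by rw [EE_X]; exact hs⟩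
    ⟨t, by rw [EE_Y]; exact ht⟩).mem_normalizer hω

omit [Fintype F] in
theorem sl3_normal (hM : Nrm (specialLinear (Fin 3) F) M) :
    M ⊓ specialLinear (Fin 3) F ≤ scalars (Fin 3) F ∨ specialLinear (Fin 3) F ≤ M := by
  have per : commutator SL(3, F) = ⊤ := Classical.sl_commutator_eq_top (by simp)
  let N := M.comap (SpecialLinearGroup.toGL : SL(3, F) →* G3 F)
  have hN : N.Normal := ⟨fun x hx g => by
    rw [mem_comap, map_mul, map_mul, map_inv]
    exact hM _ (mem_specialLinear.2 g.2) _ hx⟩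
  have hs : IsSimpleGroup PSL(3, F) := Classical.psl_isSimpleGroup (by simp)
  rw [← Bloom.range_toGL]
  rcases (hN.map _ (QuotientGroup.mk'_surjective (center SL(3, F)))).eq_bot_or_eq_top with h | h
  · rw [Subgroup.map_eq_bot_iff, QuotientGroup.ker_mk'] at h
    refine .inl ?_
    rintro _ ⟨h1, x, rfl⟩
    obtain ⟨r, -, hr⟩ := Matrix.SpecialLinearGroup.mem_center_iff.1 (h (x := x) h1)
    refine mem_scalars_of_eq_smul (c := r) ?_
    rw [smul_one_eq_diagonal]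
    exact hr.symm
  · have e : N ⊔ center _ = ⊤ := by
      rw [← QuotientGroup.ker_mk' (center SL(3, F)), ← comap_map_eq, h, comap_top]
    have e' : N = ⊤ := by
      rw [eq_top_iff, ← per, _root_.commutator_def, ← e, commutator_le]
      intro a ha b hb
      rw [← SetLike.mem_coe, mul_normal] at ha hb
      obtain ⟨a, ha, c, hc, rfl⟩ := ha
      obtain ⟨b, hb, d, hd, rfl⟩ := hb
      rw [comm_central (Subgroup.mem_center_iff.1 hc) (Subgroup.mem_center_iff.1 hd)]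
      exact N.mul_mem (N.mul_mem (N.mul_mem ha hb) (N.inv_mem ha)) (N.inv_mem hb)
    refine .inr ?_
    rintro _ ⟨x, rfl⟩
    exact (e' ▸ mem_top x : x ∈ N)

theorem mit_sl (hp : (Fintype.card F).Prime) (h3 : Fintype.card F % 3 = 1) :
    (∀ M ≤ UG (Fin 3) False (RingHom.id F), Hs hω ≤ normalizer (M : Set (G3 F)) →
      M ≤ N3 hω ∨ (SG (Fin 3) False (RingHom.id F) ≤ M ∧ (2 : F) ≠ 0)) ∧
    SG (Fin 3) False (RingHom.id F) ≤ ⁅SG (Fin 3) False (RingHom.id F), SG (Fin 3) False (RingHom.id F)⁆ := by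
  have e : SG (Fin 3) False (RingHom.id F) = specialLinear (Fin 3) F :=
    inf_eq_right.2 fun _ _ => False.elim
  have h2 : (2 : F) ≠ 0 := two_ne_zero_of_prime hp rfl (by omega)
  have hm := isMaximalIn_SL (fun _ hH hS => res_sl (q3' F) hH hS) (X := N3 hω)
    (fun h => not_sign hω h2 (h (mem_specialLinear.2 (by simp [det_dg])))) fun H hc _ hle =>
      hc.eq_c6 hle hp rfl hω (B := 1) (pull_of_mem (one_mem _))
  refine ⟨fun M => mit_of hω False.elim (fun L h1 h4 _ => ?_) fun _ M => e ▸ sl3_normal, ?_⟩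
  · rw [e] at h1 h4 ⊢
    exact (hm.2 L h1 h4).imp (fun h => h.le.trans inf_le_left) fun h => ⟨h.ge, h2⟩
  · rw [e, ← Bloom.range_toGL, MonoidHom.range_eq_map, ← map_commutator, ← _root_.commutator_def,
      Classical.sl_commutator_eq_top (by simp)]

/-- the case `q = 5` -/
theorem dich_five (hF : Fintype.card F = 5 ^ 2) (h1 : N3 hω ⊓ SUG 3 F 5 ≤ L) (h2 : L ≤ SUG 3 F 5)
    (hd : dS hω ∈ normalizer (L : Set (G3 F))) : L ≤ N3 hω ∨ SUG 3 F 5 ≤ L := by
  have := finite_gl (F := F)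
  have : Fact (Nat.Prime 3) := ⟨Nat.prime_three⟩
  by_contra! hn
  obtain ⟨H, hLH, hmax⟩ := (Set.toFinite {N : Subgroup (G3 F) | N < SUG 3 F 5}).exists_le_maximal
    (show L ∈ {N | N < SUG 3 F 5} from lt_of_le_not_ge h2 hn.2)
  have hH : IsMaximalIn (SUG 3 F 5) H := ⟨hmax.1, fun K h3 h4 => by
    by_cases e' : K = SUG 3 F 5
    · exact .inr e'
    · exact .inl (le_antisymm (hmax.2 (lt_of_le_of_ne h4 e') h3) h3)⟩
  have hr := (hessRow_normalizer hω).inf (hessRow_SUG hF rfl hω)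
  have hrH := (hr.mono h1).mono hLH
  -- the residual class
  obtain ⟨P, hP, hc⟩ : ∃ P, IsResidualCore H P ∧
      ((BarAlt P 6 ∧ Nat.card H ∣ 2160) ∨ (BarAlt P 7 ∧ H = P)) := by
    rcases Cfsg.Agent.S5778.result 5 hF (by norm_num) H hH with ⟨W, h0, h1, rfl⟩ | ⟨W, h0, -, h1, rfl⟩ |
      ⟨h, -⟩ | ⟨-, h, -⟩ | ⟨F₀, r, P, hr, ho, hc, -⟩ | ⟨-, h, -⟩ | ⟨p, R, -, rfl, -, h, -⟩ | h
    · refine absurd hrH.env_top (col1_of_le h0 ?_ inf_le_left).env_ne
      rintro rfl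
      simpa [Unitary.herm_single_left] using h1 (Pi.single 0 1) trivial (Pi.single 0 1) trivial
    · refine absurd hrH.env_top (col1_of_le h0 ?_ inf_le_left).env_ne
      rintro rfl
      rw [finrank_top, Module.finrank_fin_fun] at h1
      omega
    · omega
    · omega
    · exact absurd Nat.prime_five (not_prime_of_odd hF hr ho hc)
    · omega
    · omega
    · obtain ⟨P, hP, -, ⟨-, -, -, -, h, -⟩ | ⟨h3, -, ⟨h, -⟩ | ⟨-, h⟩⟩ | ⟨h3, -, h⟩⟩ :=
        res_su (q3' F) hF (by norm_num) hH h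
      exacts [absurd rfl h, by omega, ⟨P, hP, .inl ⟨h3, h⟩⟩, ⟨P, hP, .inr ⟨h3, h⟩⟩]
  have hQ := qs_of_core hP
  have hPS := le_specialLinear_of_perfect hP.perfect
  have h7 : BarAlt P 7 → ∃ z, z ∣ 3 ∧ Nat.card P = 2520 * z := fun ⟨e⟩ => by
    rw [show 2520 = Nat.card (Bar P) by
      rw [Nat.card_congr e.toEquiv, nat_card_alternatingGroup]; simp [Nat.factorial]]
    exact card_eq_of_bar hQ
  -- Sylow's theorem
  obtain ⟨a, ha⟩ : ∃ a, a = Nat.card (N3 hω ⊓ SUG 3 F 5 : Subgroup _) := ⟨_, rfl⟩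
  have a1 : 216 ≤ a := ha ▸ hr.card_ge
  have a2 : ∀ p : ℕ, p.Prime → p ∣ a → p ∣ 108 := fun p hp h => by
    have : Fact p.Prime := ⟨hp⟩
    obtain ⟨x, hx⟩ := exists_prime_orderOf_dvd_card' p (ha ▸ h)
    exact hx ▸ orderOf_dvd_of_pow_eq_one (Subtype.ext ((col6_std hω).pow x ⟨x.2.1, x.2.2.2⟩))
  have a5 : ¬ 5 ∣ a := fun h => by simpa using a2 5 Nat.prime_five h
  have a7 : ¬ 7 ∣ a := fun h => by simpa using a2 7 (by norm_num) h
  have hRL : stdR hω ≤ L := (hr.mono h1).le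
  have c81 : ¬ 3 ^ 4 ∣ Nat.card L := fun h => by
    have h3 := h.trans (card_dvd_of_le hLH)
    rcases hc with ⟨-, h4⟩ | ⟨h4, rfl⟩
    · exact absurd (h3.trans h4) (by norm_num)
    · obtain ⟨z, hz, e⟩ := h7 h4
      exact absurd (h3.trans (e ▸ Nat.mul_dvd_mul_left _ hz)) (by norm_num)
  have c27 : Nat.card ((stdR hω).subgroupOf L) = 3 ^ 3 :=
    (Nat.card_congr (subgroupOfEquivOfLe hRL).toEquiv).trans (card_stdR hω)
  let S : Sylow 3 L := Sylow.ofCard ((stdR hω).subgroupOf L) (by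
    have h3 := (Nat.prime_three.pow_dvd_iff_le_factorization (k := 3) Nat.card_pos.ne').1
      (c27 ▸ card_subgroup_dvd_card ((stdR hω).subgroupOf L))
    have h4 := mt (Nat.prime_three.pow_dvd_iff_le_factorization (k := 4) Nat.card_pos.ne').2 c81
    rw [c27, le_antisymm (Nat.le_of_lt_succ (not_le.1 h4)) h3])
  have hN : normalizer (S : Set L) = (N3 hω).subgroupOf L := (subgroupOf_normalizer_eq hRL).symm
  obtain ⟨n, hn0⟩ : ∃ n, n = ((N3 hω).subgroupOf L).index := ⟨_, rfl⟩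
  have n1 : n % 3 = 1 := by
    rw [hn0, ← hN, ← Sylow.card_eq_index_normalizer]
    exact card_sylow_modEq_one 3 L
  have n2 : n ≠ 1 := fun h => hn.1 (subgroupOf_eq_top.1 (index_eq_one.1 (hn0 ▸ h)))
  have n3 : a * n = Nat.card L := by
    rw [ha, hn0, ← ((N3 hω).subgroupOf L).card_mul_index, ← inf_subgroupOf_right,
      Nat.card_congr (subgroupOfEquivOfLe inf_le_right).toEquiv,
      le_antisymm (inf_le_inf_left _ h2) (le_inf inf_le_left h1)]
  have e : L = H := by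
    rcases hc with ⟨-, k, hk⟩ | ⟨h4, rfl⟩
    · obtain ⟨j, hj⟩ := card_dvd_of_le hLH
      refine eq_of_le_of_card_ge hLH ?_
      rw [hj, ← n3, mul_assoc, mul_assoc] at hk
      have h5 : 5 ∣ n * (j * k) := ((Nat.prime_five.dvd_mul).1 (hk ▸ by norm_num)).resolve_left a5
      have h6 : n * (j * k) ≤ 10 := by nlinarith
      have h8 : n * (j * k) ≠ 0 := fun h => by simp [h] at hk
      have h9 : n ≤ n * (j * k) := Nat.le_mul_of_pos_right _ (Nat.pos_of_ne_zero (right_ne_zero_of_mul h8))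
      have : j * k = 1 := by
        generalize j * k = m at *
        obtain rfl | rfl | rfl : n = 4 ∨ n = 7 ∨ n = 10 := by omega
        all_goals omega
      rw [hj, Nat.eq_one_of_mul_eq_one_right this, mul_one]
    · obtain ⟨z, hz, e⟩ := h7 h4
      have hj := (L.subgroupOf H).card_mul_index
      rw [Nat.card_congr (subgroupOfEquivOfLe hLH).toEquiv, ← n3, e, mul_assoc] at hj
      have hz' := Nat.le_of_dvd (by norm_num) hz
      have z0 : 0 < z := Nat.pos_of_dvd_of_pos hz (by norm_num)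
      have hi : (L.subgroupOf H).index = 5 := by
        generalize (L.subgroupOf H).index = j at hj
        have h5 : 5 ∣ n * j := ((Nat.prime_five.dvd_mul).1 (hj ▸ by omega)).resolve_left a5
        have h6 : 7 ∣ n * j := (((by norm_num : Nat.Prime 7).dvd_mul).1 (hj ▸ by omega)).resolve_left a7
        have h8 : n * j ≤ 35 := by nlinarith
        have h9 : n * j ≠ 0 := fun h => by rw [h] at hj; omega
        have h10 : n * j = 35 := by omega
        have := Nat.le_of_dvd (by norm_num) (h10 ▸ dvd_mul_right n j)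
        interval_cases n <;> omega
      let C := (L.subgroupOf H).normalCore
      have hC : C.index ∣ 120 := by
        unfold C
        rw [normalCore_eq_ker, index_ker]
        refine (card_subgroup_dvd_card _).trans ?_
        rw [Nat.card_perm, ← index_eq_card, hi]
        rfl
      rcases eq_or_le_scalars hP.perfect hP.simple (map_subtype_le C) (by
        rintro g hg _ ⟨x, hx, rfl⟩
        exact ⟨_, (L.subgroupOf H).normalCore_normal.conj_mem x hx ⟨g, hg⟩, rfl⟩) with h | h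
      · exact le_antisymm hLH (h.ge.trans (map_le_iff_le_comap.2 (normalCore_le _)))
      · have h3 := card_center_dvd ((map_subtype_le C).trans hPS) h
        rw [card_map_of_injective H.subtype_injective] at h3
        have := Nat.le_of_dvd (by norm_num) (C.card_mul_index ▸ Nat.mul_dvd_mul h3 hC)
        exact absurd (e ▸ this) (by omega)
  subst e
  -- `dS` normalises the core
  have hd' : ∀ y ∈ P, dS hω * y * (dS hω)⁻¹ ∈ P := by
    have k := mem_normalizer_iff.1 hd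
    rcases eq_or_le_scalars hP.perfect hP.simple (N := P ⊓ pull (dS hω) P) inf_le_left (fun g hg x hx =>
      ⟨P.mul_mem (P.mul_mem hg hx.1) (inv_mem hg), mem_pull.2 (by
        simpa [mul_assoc] using hP.normal _ ((k g).1 (hP.le hg)) _ (mem_pull.1 hx.2))⟩) with h | h
    · exact fun y hy => mem_pull.1 (h.ge hy).2
    · refine absurd (⟨⟨fun a b => ?_⟩⟩ : IsMulCommutative (Bar P)) hQ.nonab
      obtain ⟨⟨y, hy⟩, rfl⟩ := QuotientGroup.mk_surjective a
      rw [(bar_mk_eq_one (x := ⟨y, hy⟩)).2 ?_, one_mul, mul_one]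
      have h3 : (dS hω)⁻¹ * y * dS hω ∈ L := (k _).2 (by simpa [mul_assoc] using hP.le hy)
      have h4 := hP.centralizer_scalar _ h3 fun x hx => h ⟨P.mul_mem (hP.normal _ h3 x hx) (inv_mem hx),
        mem_pull.2 (by
          simpa [mul_assoc] using mul_mem hy (hP.normal _ ((k _).1 (hP.le hx)) _ (inv_mem hy)))⟩
      simpa [mul_assoc] using (inferInstance : (scalars (Fin 3) F).Normal).conj_mem _ h4 (dS hω)
  have h3 : dS hω ^ 3 = 1 := by
    rw [dS, pow_three, dg_mul, dg_mul, ← pow_three, wU_cube hω, mul_one, mul_one, dg_one]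
  have hm : dS hω ∈ P ⊔ scalars (Fin 3) F := by
    rcases hc with ⟨h, -⟩ | ⟨h, -⟩
    · rcases normA6' hQ h hω.three hd' (x' := dS hω * dS hω) (fun y hy => by
        simpa [mul_assoc] using hd' _ (hd' y hy)) with h | h | h
      · exact h
      · simpa [← pow_three', h3, mul_assoc, ← pow_three] using mul_mem h h
      · simpa using h
    · exact normA7 hQ h hd'
  obtain ⟨x, hx, _, ⟨s, rfl⟩, e⟩ := mem_sup_scalars.1 hm
  have e1 := congrArg (fun g : G3 F => (g : M3 F).det) e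
  change ((x * sc (Fin 3) s : G3 F) : M3 F).det = _ at e1
  simp only [Units.val_mul, det_mul, hQ.det hx, coe_sc, dS, det_dg] at e1
  have e2 := FiniteField.pow_card_sub_one_eq_one (s : F) s.ne_zero
  rw [hF, show 5 ^ 2 - 1 = 3 * 8 from rfl, pow_mul, show (s : F) ^ 3 = ω by simpa using e1,
    show 8 = 3 * 2 + 2 from rfl, pow_add, pow_mul, hω.cube, one_pow, one_mul] at e2
  exact hω.sq_ne_one e2

theorem mit_su {q : ℕ} (hF : Fintype.card F = q ^ 2) (hp : q.Prime) (h3 : q % 3 = 2) :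
    (∀ M ≤ UG (Fin 3) True (Unitary.conj hF), Hs hω ≤ normalizer (M : Set (G3 F)) →
      M ≤ N3 hω ∨ (SG (Fin 3) True (Unitary.conj hF) ≤ M ∧ (2 : F) ≠ 0)) ∧
    ((2 : F) ≠ 0 → SG (Fin 3) True (Unitary.conj hF) ≤
      ⁅SG (Fin 3) True (Unitary.conj hF), SG (Fin 3) True (Unitary.conj hF)⁆) := by
  have e : SG (Fin 3) True (Unitary.conj hF) = SUG 3 F q := Subgroup.ext fun g =>
    and_congr_left' (true_imp_iff.trans (Unitary.mem_GU_iff hF g).symm)
  have n2 : (2 : F) ≠ 0 → ¬ (3 = 3 ∧ q = 2) := fun h h' =>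
    absurd (h'.2 ▸ (odd_q_iff hF).2 h) (by decide)
  have hr := hessRow_SUG hF h3 hω
  refine ⟨fun M => mit_of hω (fun _ => hω.pow_q h3) (fun L h1 h4 hd => ?_)
    fun h M => e ▸ SUG_normal hF le_rfl (n2 h), fun h => e ▸ (SUG_perfect hF le_rfl (n2 h)).ge⟩
  rw [e] at h1 h4 ⊢
  by_cases h2 : q = 2
  · subst h2
    have := finite_gl (F := F)
    have hc : Nat.card (SUG 3 F 2) = 216 := by
      have := card_SUG hF (n := 3) (by norm_num)
      rw [Finset.prod_range_succ, Finset.prod_range_succ, Finset.prod_range_one] at this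
      generalize Nat.card (SUG 3 F 2) = n at this
      norm_num at this
      omega
    exact .inl (h4.trans ((eq_of_le_of_card_ge inf_le_right
      (hc ▸ ((hessRow_normalizer hω).inf hr).card_ge)).ge.trans inf_le_left))
  have ho := hp.odd_of_ne_two h2
  have h0 := (odd_q_iff hF).1 ho
  by_cases h5 : q = 5
  · subst h5
    exact (dich_five hω hF h1 h4 hd).imp_right fun h => ⟨h, h0⟩
  have hq : 3 ≤ q := by have := hp.two_le; omega
  have hm := isMaximalIn_SU hF hq (fun _ hH hS => res_su (q3' F) hF hq hH hS) (X := N3 hω)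
    (fun h => not_sign hω h0 (h ((mem_SUG_iff hF).2 ⟨by
      ext i j
      have := ho.pos.ne'
      fin_cases i <;> fin_cases j <;>
        simp [coe_dg, Matrix.mul_apply, Fin.sum_univ_three, ho.neg_one_pow, this], by simp [det_dg]⟩)))
    fun H hc hle => hc.eq_c6 hle hp h3 h5 hω (B := 1) (pull_of_mem (one_mem _))
  exact (hm.2 L h1 h4).imp (fun h => h.le.trans inf_le_left) fun h => ⟨h.ge, h0⟩

end CfsgLib.C9
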