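import Mathlib
import Cfsg.Agent.Lib.C9.Fin
import Cfsg.Agent.Lib.C9.Mit
import Cfsg.Agent.Lib.C9.Nf
import Cfsg.Agent.Lib.ClMax.SLMono
import Cfsg.Agent.Lib.SUMax.Low2

/-! The normaliser of `3 ^ (1 + 4)` is maximal (plans/C9.md). -/

set_option autoImplicit false

namespace CfsgLib.C9

open Matrix Subgroup Equiv Cfsg Cfsg.Geo CfsgLib.Asch CfsgLib.Mit CfsgLib.Mit.Gm

variable {F : Type*} [Field F] {R : Subgroup (GL (Fin 9) F)} {ω : F} {hω : Om ω} {u : Prop} {ψ : F →+* F}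
  {B : Matrix (Fin 9) I9 F} {B' : Matrix I9 (Fin 9) F}

/-- the numbering of the coordinates -/
abbrev e9 : Fin 9 ≃ I9 := (finProdFinEquiv (m := 3) (n := 3)).symm

/-- the lines spanned by the columns -/
def cols (B : Matrix (Fin 9) I9 F) (i : Fin 9) : Submodule F (Fin 9 → F) := F ∙ B *ᵥ Pi.single (e9 i) 1

theorem cols_dec (h1 : B * B' = 1) (h2 : B' * B = 1) : IsMDecomposition 1 (cols B) := by
  let b := ((Pi.basisFun F I9).map (toLin'OfInv h2 h1)).reindex e9.symm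
  have e : cols B = fun i => F ∙ b i := funext fun i => by
    simp only [cols, b, Module.Basis.coe_reindex, Function.comp, symm_symm, Module.Basis.map_apply, Pi.basisFun_apply]
    rfl
  rw [e]
  exact ⟨by norm_num, one_pos, fun i => finrank_span_singleton (b.ne_zero i),
    b.linearIndependent.iSupIndep_span_singleton, Submodule.span_range_eq_iSup.symm.trans b.span_eq⟩

theorem exists_mn (h1 : B * B' = 1) (h2 : B' * B = 1) {g : GL (Fin 9) F}
    (hg : g ∈ decompositionStabilizer (cols B)) : ∃ d π, tr h1 h2 g = mn d π := by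
  obtain ⟨σ, hσ⟩ := hg
  have k : ∀ q, ∃ a : F, ∀ p, (tr h1 h2 g : M9 F) p q = if p = e9.permCongr σ q then a else 0 := fun q => by
    obtain ⟨i, rfl⟩ := e9.surjective q
    obtain ⟨a, ha⟩ := Submodule.mem_span_singleton.1
      ((hσ i).le ⟨_, Submodule.mem_span_singleton_self _, rfl⟩)
    refine ⟨a, fun p => ?_⟩
    have := congrFun (congrArg (B' *ᵥ ·) ha) p
    simp only [mulVec_smul, toLin'_apply, mulVec_mulVec, h2, one_mulVec, ← Matrix.mul_assoc] at this
    simpa [coe_tr, Pi.single_apply] using this.symm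
  choose a ha using k
  have h0 : ∀ q, a q ≠ 0 := fun q e => (tr h1 h2 g).det_ne_zero
    (det_eq_zero_of_column_eq_zero q fun p => by simp [ha, e])
  exact ⟨fun q => Units.mk0 _ (h0 q), _, Units.ext (Matrix.ext fun p q => ha q p)⟩

theorem det_tr (h1 : B * B' = 1) (h2 : B' * B = 1) (g : GL (Fin 9) F) :
    tr h1 h2 g ∈ specialLinear I9 F ↔ g ∈ specialLinear (Fin 9) F := by
  rw [mem_specialLinear, mem_specialLinear, coe_tr, det_conj_of_mul_eq_one h2 h1]

theorem wrap [Finite F] (Φ : GL (Fin 9) F ≃* G9 F) (hR : R.map Φ.toMonoidHom = R0 hω)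
    {G D : Subgroup (GL (Fin 9) F)} (hG : ∀ g, Φ g ∈ SG I9 u ψ ↔ g ∈ G) (ho : u → ψ ω = ω ^ 2)
    (hm : ∀ M ≤ UG (Fin 3) u ψ, Hs hω ≤ normalizer (M : Set (G3 F)) →
      M ≤ N3 hω ∨ (SG (Fin 3) u ψ ≤ M ∧ (2 : F) ≠ 0))
    (hp : (2 : F) ≠ 0 → SG (Fin 3) u ψ ≤ ⁅SG (Fin 3) u ψ, SG (Fin 3) u ψ⁆)
    (hD : IsMaximalIn G (D ⊓ G)) (hd : ∀ g ∈ D, ∃ d π, Φ g = mn d π) :
    IsMaximalIn G (subgroupNormalizer R ⊓ G) := by
  have hN : ∀ g, Φ g ∈ N9 hω ↔ g ∈ subgroupNormalizer R := fun g => by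
    rw [N9, ← hR, ← map_equiv_normalizer_eq]
    exact mem_map_iff_mem Φ.injective
  refine ⟨lt_of_le_not_ge inf_le_right fun h => ?_, fun M h1 h2 => ?_⟩
  · obtain ⟨g, hg⟩ := Φ.surjective (mon hω (pM (swap (1, 0) (2, 0))))
    have := (hN g).2 (h ((hG g).1 (hg ▸ mon_mem hω ho (by decide)))).1
    have := (mem_normalizer_iff.1 this _).1 (W_mem hω 0 (0, 1) 0)
    rw [hg, mon_conj, mon_mem_R0] at this
    exact absurd this (by decide)
  by_cases h : ∀ d π, mn d π ∈ SG I9 u ψ → mn d π ∈ M.map Φ.toMonoidHom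
  · refine .inr ((hD.2 M (fun g hg => ?_) h2).resolve_left fun e => ?_)
    · obtain ⟨d, π, e⟩ := hd g hg.1
      exact (mem_map_iff_mem Φ.injective).1 (show Φ g ∈ _ from e ▸ h d π (e ▸ (hG g).2 hg.2))
    · obtain ⟨g, hg⟩ := Φ.surjective (Δ (fS hω))
      have hf := H4_le hω (fS_H4 hω)
      obtain ⟨d, π, e1⟩ := hd g (e.le (h1 ⟨(hN g).1 (hg ▸ Δ_mem_N9 hω (Hs_le_N3 hω hf)),
        (hG g).1 (hg ▸ ⟨bd_mem_UG.2 fun _ => Hs_le_UG hω ho hf, mem_SL.2 (by
          rw [Δ_eq, det_bd, Finset.prod_const]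
          exact Units.ext (det_Hs hω hf))⟩)⟩)).1
      have k : ∀ i, (i, 0) = π 0 := fun i => by_contra fun n => by
        have := congrArg (fun g : G9 F => g.1 (i, 0) 0) (hg.symm.trans e1)
        rw [mn_apply, if_neg n] at this
        have h3 : th ω = 0 := by
          fin_cases i <;> simpa [Δ_eq, coe_bd, blockDiagonal_apply, coe_fS, VS] using this
        have h4 := hω.th2
        rw [h3] at h4
        simp at h4
      exact absurd ((k 0).trans (k 1).symm) (by decide)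
  · have c : Ctx hω u ψ (M.map Φ.toMonoidHom) := ⟨ho, hm, hp, by
      rintro _ ⟨g, hg, rfl⟩
      exact (hG g).2 (h2 hg), fun g hg => by
        obtain ⟨g, rfl⟩ := Φ.surjective g
        exact ⟨g, h1 ⟨(hN g).1 hg.1, (hG g).1 hg.2⟩, rfl⟩, h⟩
    exact .inl (le_antisymm (fun g hg => ⟨(hN g).1 (c.le_N9 ⟨g, hg, rfl⟩), h2 hg⟩) h1)

variable [Fintype F]

theorem sl_max (hp : (Fintype.card F).Prime) (h3 : Fintype.card F % 3 = 1) (hR : IsLinearSymplecticTypeData 3 R) :
    IsMaximalIn (specialLinear (Fin 9) F) (subgroupNormalizer R ⊓ specialLinear (Fin 9) F) := by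
  obtain ⟨ω, hω⟩ := exists_om (F := F) (by omega)
  obtain ⟨B, B', h1, h2, e⟩ := exists_nf hω hR.symplecticType hR.absIrred (by
    obtain ⟨_, _, -, -, h | h | h⟩ := hR.field
    exacts [h.2.2.1, absurd h.1 (by decide), absurd h.1 (by decide)])
  refine wrap (u := False) (ψ := RingHom.id F) (tr h1 h2) e
    (fun g => (and_iff_right False.elim).trans (det_tr h1 h2 g)) False.elim (mit_sl hω hp h3).1
    (fun _ => (mit_sl hω hp h3).2) (ClMax.decompositionStabilizer_isMaximalIn (by simp) (cols_dec h1 h2)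
      (fun h => ?_) (by omega)) fun g => exists_mn h1 h2
  have := hp.two_le
  rw [show Fintype.card F = 4 by omega] at hp
  exact absurd hp (by decide)

theorem su_max {q : ℕ} (hF : Fintype.card F = q ^ 2) (hp : q.Prime) (h3 : q % 3 = 2) (hR : IsSymplecticTypeGroup 3 R)
    (habs : ActsAbsolutelyIrreducibly (matrixSet R)) (hs : R ≤ similarityGroup (hermForm 9 F q))
    (hZ : Nat.card (center R) = 3) : IsMaximalIn (GU 9 F q ⊓ specialLinear (Fin 9) F)
      (subgroupNormalizer R ⊓ (GU 9 F q ⊓ specialLinear (Fin 9) F)) := by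
  obtain ⟨ω, hω⟩ := exists_om' hF h3
  obtain ⟨B, B', h1, h2, e⟩ := exists_nf hω hR habs hZ
  set ψ := Unitary.conj hF
  have ho : True → ψ ω = ω ^ 2 := fun _ => hω.pow_q h3
  have hU : R ≤ GU 9 F q := fun x hx => by
    obtain ⟨c, hc⟩ := hs hx
    have h0 : hermForm 9 F q (Pi.single 0 1) (Pi.single 0 1) = 1 := by simp [Unitary.herm_single_left]
    have e0 : x * (x * x) = 1 := by
      rw [← pow_three, ← (tr h1 h2).map_eq_one_iff, map_pow]
      exact cube_R0 hω (e ▸ ⟨x, hx, rfl⟩)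
    have e1 : 1 = (c : F) ^ 3 := by
      rw [← h0, ← one_mulVec (Pi.single 0 1), ← Units.val_one, ← e0, Units.val_mul, Units.val_mul,
        ← mulVec_mulVec, ← mulVec_mulVec, hc, hc, hc, h0]
      ring
    have e2 := Unitary.herm_self_pow_q hF (x.1 *ᵥ Pi.single 0 1)
    rw [hc, h0, mul_one, ← Nat.div_add_mod q 3, h3, pow_add, pow_mul, ← e1, one_pow, one_mul,
      pow_two, mul_eq_left₀ c.ne_zero] at e2
    exact fun u v => (hc u v).trans (by rw [e2, one_mul])
  have k : ∀ g : GL (Fin 9) F, (tr h1 h2 g).1ᵀ * (Bᵀ * B.map ψ) * (tr h1 h2 g).1.map ψ =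
      Bᵀ * (g.1ᵀ * g.1.map ψ) * B.map ψ := fun g => by
    have : B * (tr h1 h2 g).1 = g.1 * B := by
      rw [coe_tr, ← Matrix.mul_assoc, ← Matrix.mul_assoc, h1, Matrix.one_mul]
    rw [← Matrix.mul_assoc, ← transpose_mul, Matrix.mul_assoc, ← Matrix.map_mul, this, transpose_mul, Matrix.map_mul]
    simp only [Matrix.mul_assoc]
  have k1 : ∀ Y : Matrix (Fin 9) (Fin 9) F, B'ᵀ * (Bᵀ * Y * B.map ψ) * B'.map ψ = Y := fun Y => by
    rw [← Matrix.mul_assoc, ← Matrix.mul_assoc, ← transpose_mul, Matrix.mul_assoc, ← Matrix.map_mul, h1]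
    simp
  have k2 : ∀ m : Mo, NG m → IsW m → (Bᵀ * B.map ψ)ᵀ * mon hω m = mon hω m * (Bᵀ * B.map ψ)ᵀ := fun m hm hw => by
    obtain ⟨g, hg, e1⟩ := e.ge ((mon_mem_R0 hω).2 hw)
    have e2 := k g
    rw [(Unitary.mem_GU_iff hF g).1 (hU hg), Matrix.mul_one, show tr h1 h2 g = _ from e1] at e2
    have e3 := mul_eq_one_comm.1 ((mon_mem hω ho hm.1).1 trivial)
    generalize Bᵀ * B.map ψ = Y at e2 ⊢
    rw [← transpose_inj, transpose_mul, transpose_mul, transpose_transpose]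
    conv_rhs => rw [← e2, mul_assoc, e3, mul_one]
  obtain ⟨c, hc⟩ : ∃ c : F, Bᵀ * B.map ψ = c • 1 := ⟨_, by
    rw [← transpose_inj, scalar_of_comm9 hω (k2 _ (by decide) (by decide)) (k2 _ (by decide) (by decide))
      (k2 _ (by decide) (by decide)) (k2 _ (by decide) (by decide)), transpose_smul, transpose_one]⟩
  have c0 : c ≠ 0 := fun h => by
    have := k1 1
    rw [Matrix.mul_one, hc, h] at this
    simp at this
  have hf : ∀ (i j) (a b : F), hermForm 9 F q (a • B *ᵥ Pi.single (e9 i) 1) (b • B *ᵥ Pi.single (e9 j) 1) =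
      if i = j then a * (b ^ q * c) else 0 := fun i j a b => by
    have := congrFun (congrFun hc (e9 i)) (e9 j)
    rw [Unitary.herm_smul_left, Unitary.herm_smul_right,
      show hermForm 9 F q _ _ = (Bᵀ * B.map ψ) (e9 i) (e9 j) by simp [hermForm, Matrix.mul_apply, ψ,
        Unitary.conj_apply], this]
    simp [one_apply]
  refine wrap (u := True) (ψ := ψ) (tr h1 h2) e (fun g => and_congr (true_imp_iff.trans ?_) (det_tr h1 h2 g)) ho
    (mit_su hω hF hp h3).1 (mit_su hω hF hp h3).2 (SUMax.isMaximalIn_su_frame hF (by omega) (by omega) _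
      ⟨cols_dec h1 h2, fun i w hw h0 => ?_, fun i j n v hv w hw => ?_⟩) fun g => exists_mn h1 h2
  · have e1 := k g
    rw [hc, mul_smul_comm, smul_mul_assoc, mul_one] at e1
    refine ⟨fun h => (Unitary.mem_GU_iff hF g).2 ?_, fun h => smul_right_injective _ c0 ?_⟩
    · rw [← k1 (_ * _), ← e1, h, ← hc, ← Matrix.mul_one Bᵀ, k1]
    · rw [(Unitary.mem_GU_iff hF g).1 h, Matrix.mul_one, hc] at e1
      exact e1
  · obtain ⟨a, rfl⟩ := Submodule.mem_span_singleton.1 hw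
    have a0 := left_ne_zero_of_smul h0
    have := ((hf i i a a).trans (if_pos rfl)).trans_ne (mul_ne_zero a0 (mul_ne_zero (pow_ne_zero _ a0) c0))
    exact ⟨⟨_, hw, this⟩, _, hw, this⟩
  · obtain ⟨a, rfl⟩ := Submodule.mem_span_singleton.1 hv
    obtain ⟨b, rfl⟩ := Submodule.mem_span_singleton.1 hw
    rw [hf, if_neg n]

end CfsgLib.C9
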